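import Cfsg.Agent.Lib.TwoGroups.QuasiDihedralSub
import Cfsg.Agent.Lib.Transfer.Thompson
import Mathlib.GroupTheory.SpecificGroups.KleinFour

/-!
# Fusion in a group with quasi-dihedral Sylow 2-subgroups

With `zz = x ^ (4·2^m)` the central involution of `S` and `aa = x ^ (2·2^m)`: every involution is conjugate to
`zz` or to `x ^ e * y` (`e` even), every element of order 4 to `aa` or to `x ^ e * y` (`e` odd); the two kinds
are fused exactly according to the automizers of the four-subgroups and of the quaternion subgroups of order 8.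
-/

set_option autoImplicit false
set_option linter.style.haveILetI false
set_option linter.unusedSectionVars false

namespace Cfsg.Agent.QDFusion

open TwoGroups

/-- If the automizer of a four-group has order divisible by 3 its involutions are conjugate. -/
theorem isConj_of_three_dvd {G : Type*} [Group G] [Finite G] (U : Subgroup G) [IsKleinFour U]
    (h3 : 3 ∣ (Subgroup.centralizer (U : Set G)).relIndex (Subgroup.normalizer (U : Set G)))
    {a b : G} (ha : a ∈ U) (ha1 : a ≠ 1) (hb : b ∈ U) (hb1 : b ≠ 1) : IsConj a b := by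
  haveI : Fact (Nat.Prime 3) := ⟨Nat.prime_three⟩
  rw [Subgroup.relIndex, ← Subgroup.normalizerMonoidHom_ker, Subgroup.index_ker] at h3
  obtain ⟨⟨f, n, rfl⟩, hf⟩ := exists_prime_orderOf_dvd_card' 3 h3
  replace hf : orderOf (U.normalizerMonoidHom n) = 3 := (Subgroup.orderOf_coe _).trans hf
  set f := U.normalizerMonoidHom n with hfdef
  set u : U := ⟨a, ha⟩ with hudef
  set w : U := ⟨b, hb⟩ with hwdef
  have hconj : ∀ y : U, IsConj (y : G) (f y : G) := fun y => isConj_iff.mpr ⟨n, rfl⟩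
  have hfne : ∀ y : U, y ≠ 1 → f y ≠ y := by
    intro y hy hfy
    have hf3 : f ^ 3 = 1 := by rw [← hf, pow_orderOf_eq_one]
    have hf2 : f ^ 2 = 1 := by
      ext1 v
      rw [pow_two, MulAut.mul_apply, MulAut.one_apply]
      by_cases hv1 : v = 1
      · rw [hv1, map_one, map_one]
      by_cases hvy : v = y
      · rw [hvy, hfy, hfy]
      rcases eq_or_ne (f v) v with h | h
      · rw [h, h]
      have h' : f v = y * v :=
        IsKleinFour.eq_mul_of_ne_all (x := y) (y := v) hy hv1 (fun h0 => hvy h0.symm) (z := f v)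
          (fun h0 => hv1 (f.injective (h0.trans (map_one f).symm)))
          (fun h0 => hvy (f.injective (h0.trans hfy.symm))) h
      rw [h', map_mul, hfy, h', ← mul_assoc, IsKleinFour.mul_self, one_mul]
    have hf1 : f = 1 := by
      calc f = f ^ 3 * (f ^ 2)⁻¹ := by group
        _ = 1 := by rw [hf2, hf3, inv_one, mul_one]
    rw [hf1, orderOf_one] at hf
    omega
  have hu1 : u ≠ 1 := fun h => ha1 (congrArg Subtype.val h)
  have hw1 : w ≠ 1 := fun h => hb1 (congrArg Subtype.val h)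
  by_cases h0 : u = w
  · have : a = b := congrArg Subtype.val h0
    rw [this]
  by_cases h1 : f u = w
  · have := hconj u
    rw [h1] at this
    exact this
  by_cases h2 : f (f u) = w
  · have := (hconj u).trans (hconj (f u))
    rw [h2] at this
    exact this
  exfalso
  have hfu1 : f u ≠ 1 := fun h => hu1 (f.injective (h.trans (map_one f).symm))
  have e1 : f u = u * w :=
    IsKleinFour.eq_mul_of_ne_all (x := u) (y := w) hu1 hw1 h0 (z := f u) hfu1 (hfne u hu1) h1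
  have hffu1 : f (f u) ≠ 1 := fun h => hfu1 (f.injective (h.trans (map_one f).symm))
  by_cases h4 : f (f u) = u
  · have h5 : f (u * f u) = u * f u := by
      rw [map_mul, h4]; exact mul_comm_of_exponent_two IsKleinFour.exponent_two _ _
    refine hfne _ ?_ h5
    intro h6
    exact hfne u hu1 (by rw [eq_inv_of_mul_eq_one_right h6]; exact IsKleinFour.inv_eq_self u)
  have e2 : f (f u) = u * w :=
    IsKleinFour.eq_mul_of_ne_all (x := u) (y := w) hu1 hw1 h0 (z := f (f u)) hffu1 h4 h2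
  exact hfne (f u) hfu1 (e2.trans e1.symm)

/-- Exactly one class of elements of order `n`. -/
theorem card_classes_one {G : Type*} [Group G] {n : ℕ} {a : G} (ha : orderOf a = n)
    (h : ∀ u : G, orderOf u = n → IsConj u a) :
    Nat.card {C : ConjClasses G // ∃ t : G, orderOf t = n ∧ ConjClasses.mk t = C} = 1 := by
  refine Nat.card_eq_one_iff_unique.mpr ⟨⟨?_⟩, ⟨⟨_, a, ha, rfl⟩⟩⟩
  rintro ⟨_, t, ht, rfl⟩ ⟨_, s, hs, rfl⟩
  exact Subtype.ext (ConjClasses.mk_eq_mk_iff_isConj.mpr ((h t ht).trans (h s hs).symm))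

/-- Exactly two classes of elements of order `n`. -/
theorem card_classes_two {G : Type*} [Group G] {n : ℕ} {a b : G} (ha : orderOf a = n)
    (hb : orderOf b = n) (hab : ¬ IsConj a b) (h : ∀ u : G, orderOf u = n → IsConj u a ∨ IsConj u b) :
    Nat.card {C : ConjClasses G // ∃ t : G, orderOf t = n ∧ ConjClasses.mk t = C} = 2 := by
  rw [Nat.card_eq_two_iff]
  refine ⟨⟨_, a, ha, rfl⟩, ⟨_, b, hb, rfl⟩,
    fun e => hab (ConjClasses.mk_eq_mk_iff_isConj.mp (congrArg Subtype.val e)), ?_⟩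
  refine Set.eq_univ_of_forall ?_
  rintro ⟨_, t, ht, rfl⟩
  rcases h t ht with h' | h'
  · exact Or.inl (Subtype.ext (ConjClasses.mk_eq_mk_iff_isConj.mpr h'))
  · exact Or.inr (Subtype.ext (ConjClasses.mk_eq_mk_iff_isConj.mpr h'))

section

variable {G : Type*} [Group G] [Finite G] {S : Sylow 2 G} {x y : ↥(S : Subgroup G)} {m : ℕ}
  (h : QDGen x y m)
include h

/-- The central involution. -/
abbrev zz (x : ↥(S : Subgroup G)) (m : ℕ) : ↥(S : Subgroup G) := x ^ ((4 : ℤ) * 2 ^ m)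

/-- An element of order 4 in `⟨x⟩`. -/
abbrev aa (x : ↥(S : Subgroup G)) (m : ℕ) : ↥(S : Subgroup G) := x ^ ((2 : ℤ) * 2 ^ m)

omit h in
theorem isConj_coe {u v : ↥(S : Subgroup G)} (s : ↥(S : Subgroup G)) (e : s * u * s⁻¹ = v) :
    IsConj (u : G) (v : G) := isConj_iff.mpr ⟨s, congrArg Subtype.val e⟩

theorem orderOf_zz : orderOf ((zz x m : ↥(S : Subgroup G)) : G) = 2 := by
  rw [Subgroup.orderOf_coe]
  refine orderOf_eq_prime_iff.mpr ⟨(h.x_sq_eq_one_iff _).2 dvd_rfl, fun e => ?_⟩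
  rw [h.zpow_eq_one_iff] at e
  have := Int.le_of_dvd (by positivity) e
  have : (0 : ℤ) < 2 ^ m := by positivity
  linarith

theorem orderOf_aa : orderOf ((aa x m : ↥(S : Subgroup G)) : G) = 4 := by
  rw [Subgroup.orderOf_coe]
  refine orderOf_eq_prime_pow (p := 2) (n := 1) (fun e => ?_) ((h.x_pow_four_eq_one_iff _).2 dvd_rfl)
  rw [pow_one, h.x_sq_eq_one_iff] at e
  have := Int.le_of_dvd (by positivity) e
  have : (0 : ℤ) < 2 ^ m := by positivity
  linarith

theorem orderOf_xy_even {e : ℤ} (he : 2 ∣ e) :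
    orderOf ((x ^ e * y : ↥(S : Subgroup G)) : G) = 2 := by
  rw [Subgroup.orderOf_coe]
  refine orderOf_eq_prime_iff.mpr ⟨(h.xy_sq_eq_one_iff _).2 he, fun e1 => ?_⟩
  exact h.xy_ne e 0 (by rw [e1, zpow_zero])

theorem orderOf_xy_odd {e : ℤ} (he : ¬ 2 ∣ e) :
    orderOf ((x ^ e * y : ↥(S : Subgroup G)) : G) = 4 := by
  rw [Subgroup.orderOf_coe]
  exact orderOf_eq_prime_pow (p := 2) (n := 1)
    (fun e1 => he ((h.xy_sq_eq_one_iff _).1 (by rwa [pow_one] at e1))) (h.xy_pow_four e)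

theorem commute_zz (s : ↥(S : Subgroup G)) : Commute s (zz x m) :=
  Subgroup.mem_center_iff.mp ((h.x_mem_center_iff _).2 dvd_rfl) s

theorem conj_zz (s : ↥(S : Subgroup G)) : s * zz x m * s⁻¹ = zz x m := by
  rw [(commute_zz h s).eq, mul_inv_cancel_right]

theorem mem_centralizer_zz (s : ↥(S : Subgroup G)) :
    (s : G) ∈ Subgroup.centralizer ({((zz x m : ↥(S : Subgroup G)) : G)} : Set G) :=
  Subgroup.mem_centralizer_singleton_iff.mpr (congrArg Subtype.val (commute_zz h s).eq)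

theorem conj_aa (s : ↥(S : Subgroup G)) :
    s * aa x m * s⁻¹ = aa x m ∨ s * aa x m * s⁻¹ = (aa x m)⁻¹ := by
  obtain ⟨j, rfl | rfl⟩ := h.exists_form s
  · left; rw [← zpow_neg, ← zpow_add, ← zpow_add, h.zpow_eq_iff]; exact ⟨0, by ring⟩
  · right
    rw [h.conj_x_by_xy, ← zpow_neg, h.zpow_eq_iff]
    exact ⟨2 ^ m, by ring⟩

theorem conj_mem_zpowers_aa (s : ↥(S : Subgroup G)) :
    (s : G) ∈ Subgroup.normalizer
      ((Subgroup.zpowers ((aa x m : ↥(S : Subgroup G)) : G) : Subgroup G) : Set G) := by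
  refine Transfer.mem_normalizer_of_conj_mem fun g hg => ?_
  obtain ⟨k, rfl⟩ := Subgroup.mem_zpowers_iff.mp hg
  rw [← conj_zpow]
  refine zpow_mem ?_ k
  rcases conj_aa h s with e | e
  · have e' := congrArg Subtype.val e
    simp only [Subgroup.coe_mul, Subgroup.coe_inv] at e'
    rw [e']; exact Subgroup.mem_zpowers _
  · have e' := congrArg Subtype.val e
    simp only [Subgroup.coe_mul, Subgroup.coe_inv] at e'
    rw [e']; exact Subgroup.inv_mem _ (Subgroup.mem_zpowers _)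

theorem eq_zz_or_xy {g : ↥(S : Subgroup G)} (hg : orderOf g = 2) :
    g = zz x m ∨ ∃ i : ℤ, 2 ∣ i ∧ g = x ^ i * y := by
  have h1 : g ^ 2 = 1 := by have := pow_orderOf_eq_one g; rwa [hg] at this
  obtain ⟨i, rfl | rfl⟩ := h.exists_form g
  · left
    obtain ⟨c, rfl⟩ := (h.x_sq_eq_one_iff i).1 h1
    rw [h.zpow_eq_iff]
    rcases Int.even_or_odd' c with ⟨d, rfl | rfl⟩
    · exfalso
      have : x ^ ((4 : ℤ) * 2 ^ m * (2 * d)) = 1 := (h.zpow_eq_one_iff _).2 ⟨d, by ring⟩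
      rw [this, orderOf_one] at hg
      omega
    · exact ⟨d, by ring⟩
  · exact Or.inr ⟨i, (h.xy_sq_eq_one_iff i).1 h1, rfl⟩

theorem eq_aa_or_xy {g : ↥(S : Subgroup G)} (hg : orderOf g = 4) :
    g = aa x m ∨ g = (aa x m)⁻¹ ∨ ∃ i : ℤ, ¬ 2 ∣ i ∧ g = x ^ i * y := by
  have h1 : g ^ 4 = 1 := by have := pow_orderOf_eq_one g; rwa [hg] at this
  have h2 : g ^ 2 ≠ 1 := pow_ne_one_of_lt_orderOf (by norm_num) (by omega)
  obtain ⟨i, rfl | rfl⟩ := h.exists_form g
  · obtain ⟨c, rfl⟩ := (h.x_pow_four_eq_one_iff i).1 h1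
    rw [ne_eq, h.x_sq_eq_one_iff] at h2
    rcases Int.even_or_odd' c with ⟨d, rfl | rfl⟩
    · exact absurd ⟨d, by ring⟩ h2
    · rcases Int.even_or_odd' d with ⟨e, rfl | rfl⟩
      · left; rw [h.zpow_eq_iff]; exact ⟨e, by ring⟩
      · right; left; rw [← zpow_neg, h.zpow_eq_iff]; exact ⟨e + 1, by ring⟩
  · exact Or.inr (Or.inr ⟨i, fun hi => h2 ((h.xy_sq_eq_one_iff i).2 hi), rfl⟩)

theorem isConj_xy {i i' : ℤ} (hii : 2 ∣ i' - i) :
    IsConj ((x ^ i * y : ↥(S : Subgroup G)) : G) ((x ^ i' * y : ↥(S : Subgroup G)) : G) :=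
  let ⟨_, hj⟩ := h.exists_conj hii
  isConj_coe _ hj

theorem isConj_aa_inv :
    IsConj (((aa x m)⁻¹ : ↥(S : Subgroup G)) : G) ((aa x m : ↥(S : Subgroup G)) : G) := by
  refine (isConj_coe y ?_).symm
  rw [← one_mul y, ← zpow_zero x, h.conj_x_by_xy, ← zpow_neg, h.zpow_eq_iff]
  exact ⟨2 ^ m, by ring⟩

omit h in
theorem exists_conj_into {u : G} {k : ℕ} (hu : orderOf u = 2 ^ k) :
    ∃ s : ↥(S : Subgroup G), IsConj u (s : G) ∧ orderOf s = 2 ^ k := by
  haveI : Fact (Nat.Prime 2) := ⟨Nat.prime_two⟩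
  obtain ⟨P, hP⟩ := (IsPGroup.of_card (p := 2) (n := k) (G := Subgroup.zpowers u)
    (by rw [Nat.card_zpowers, hu])).exists_le_sylow
  obtain ⟨g, hg⟩ := MulAction.exists_smul_eq G P S
  have hmem : g * u * g⁻¹ ∈ (S : Subgroup G) := by
    rw [← hg, Sylow.coe_subgroup_smul]
    exact Subgroup.smul_mem_pointwise_smul u (MulAut.conj g) _ (hP (Subgroup.mem_zpowers u))
  exact ⟨⟨_, hmem⟩, isConj_iff.mpr ⟨g, rfl⟩, by
    rw [Subgroup.orderOf_mk, ← MulAut.conj_apply, MulEquiv.orderOf_eq, hu]⟩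

theorem isConj_involution {u : G} (hu : orderOf u = 2) :
    IsConj u ((zz x m : ↥(S : Subgroup G)) : G) ∨
      IsConj u ((x ^ (0 : ℤ) * y : ↥(S : Subgroup G)) : G) := by
  obtain ⟨s, hs, hso⟩ := exists_conj_into (S := S) (k := 1) (by rw [hu, pow_one])
  rw [pow_one] at hso
  rcases eq_zz_or_xy h hso with rfl | ⟨i, hi, rfl⟩
  · exact Or.inl hs
  · exact Or.inr (hs.trans (isConj_xy h (by simpa using hi)))

theorem isConj_order_four {u : G} (hu : orderOf u = 4) :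
    IsConj u ((aa x m : ↥(S : Subgroup G)) : G) ∨
      IsConj u ((x ^ (1 : ℤ) * y : ↥(S : Subgroup G)) : G) := by
  obtain ⟨s, hs, hso⟩ := exists_conj_into (S := S) (k := 2) (u := u) (by rw [hu]; norm_num)
  norm_num at hso
  rcases eq_aa_or_xy h hso with rfl | rfl | ⟨i, hi, rfl⟩
  · exact Or.inl hs
  · exact Or.inl (hs.trans (isConj_aa_inv h))
  · refine Or.inr (hs.trans (isConj_xy h ?_))
    omega

omit h in
/-- A 2-group inside a subgroup `C` containing `S` is conjugate into `S` by an element of `C`. -/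
theorem exists_conj_le {C P : Subgroup G} (hS : (S : Subgroup G) ≤ C) (hP : IsPGroup 2 P) (hPC : P ≤ C) :
    ∃ c ∈ C, ∀ p ∈ P, c * p * c⁻¹ ∈ (S : Subgroup G) := by
  haveI : Fact (Nat.Prime 2) := ⟨Nat.prime_two⟩
  obtain ⟨R, hR⟩ := (hP.comap_subtype (K := C)).exists_le_sylow
  obtain ⟨c, hc⟩ := MulAction.exists_smul_eq C R (S.subtype hS)
  refine ⟨c, c.2, fun p hp => ?_⟩
  have h1 : c * ⟨p, hPC hp⟩ * c⁻¹ ∈ ((c • R : Sylow 2 C) : Subgroup C) :=
    ⟨⟨p, hPC hp⟩, hR hp, rfl⟩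
  rw [hc] at h1
  exact h1

omit h in
theorem map_subgroupOf_eq {T : Subgroup G} (hT : T ≤ (S : Subgroup G)) :
    (T.subgroupOf (S : Subgroup G)).map (S : Subgroup G).subtype = T :=
  Subgroup.map_subgroupOf_eq_of_le hT

/-- A four-subgroup of `S` consists of `1`, `zz` and two reflections. -/
theorem klein_part {T : Subgroup G} (hT : IsKleinFour T) (hTS : T ≤ (S : Subgroup G)) :
    ∃ e : ℤ, 2 ∣ e ∧ T.subgroupOf (S : Subgroup G) =
      h.part (4 * 2 ^ m) (QDGen.dvd_four_self m) e := by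
  haveI : IsKleinFour (T.subgroupOf (S : Subgroup G)) := by
    refine ⟨(Nat.card_congr (Subgroup.subgroupOfEquivOfLe hTS).toEquiv).trans IsKleinFour.card_four,
      ?_⟩
    rw [Monoid.exponent_eq_of_mulEquiv (Subgroup.subgroupOfEquivOfLe hTS)]
    exact IsKleinFour.exponent_two
  exact h.exists_part_of_kleinFour _

theorem quaternion_part {Q : Subgroup G} (eQ : Q ≃* QuaternionGroup 2)
    (hQS : Q ≤ (S : Subgroup G)) :
    ∃ e : ℤ, ¬ 2 ∣ e ∧ Q.subgroupOf (S : Subgroup G) =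
      h.part (2 * 2 ^ m) (QDGen.dvd_two_self m) e :=
  h.exists_part_of_quaternion _ ((Subgroup.subgroupOfEquivOfLe hQS).trans eQ)

theorem isConj_zz_of_six {T : Subgroup G} (hT : IsKleinFour T) (hTS : T ≤ (S : Subgroup G))
    (h₁ : (Subgroup.centralizer (T : Set G)).relIndex (Subgroup.normalizer (T : Set G)) = 6)
    {u : G} (hu : orderOf u = 2) : IsConj u ((zz x m : ↥(S : Subgroup G)) : G) := by
  haveI := hT
  obtain ⟨e, he, hpart⟩ := klein_part h hT hTS
  have hz : ((zz x m : ↥(S : Subgroup G)) : G) ∈ T := by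
    have : zz x m ∈ T.subgroupOf (S : Subgroup G) := by
      rw [hpart, h.x_mem_part]; push_cast; exact dvd_rfl
    exact this
  have hy : ((x ^ e * y : ↥(S : Subgroup G)) : G) ∈ T := by
    have : x ^ e * y ∈ T.subgroupOf (S : Subgroup G) := by
      rw [hpart, h.xy_mem_part]; simp
    exact this
  have key : IsConj ((x ^ e * y : ↥(S : Subgroup G)) : G) ((zz x m : ↥(S : Subgroup G)) : G) :=
    isConj_of_three_dvd T (by rw [h₁]; norm_num) hy
      (fun e1 => by have := orderOf_xy_even h he; rw [e1, orderOf_one] at this; omega) hz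
      (fun e1 => by have := orderOf_zz h; rw [e1, orderOf_one] at this; omega)
  rcases isConj_involution h hu with h' | h'
  · exact h'
  · exact (h'.trans (isConj_xy h (by simpa using he))).trans key

theorem not_isConj_zz_of_two {T : Subgroup G} (hT : IsKleinFour T) (hTS : T ≤ (S : Subgroup G))
    (h₁ : (Subgroup.centralizer (T : Set G)).relIndex (Subgroup.normalizer (T : Set G)) = 2) :
    ¬ IsConj ((zz x m : ↥(S : Subgroup G)) : G) ((x ^ (0 : ℤ) * y : ↥(S : Subgroup G)) : G) := by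
  intro hcon
  haveI := hT
  haveI : Fact (Nat.Prime 2) := ⟨Nat.prime_two⟩
  obtain ⟨e, he, hpart⟩ := klein_part h hT hTS
  have hmemT : ∀ {g : ↥(S : Subgroup G)}, (g : G) ∈ T ↔ g ∈ h.part (4 * 2 ^ m) (QDGen.dvd_four_self m) e :=
    fun {g} => by rw [← hpart]; rfl
  set z : G := ((zz x m : ↥(S : Subgroup G)) : G) with hz
  set y' : G := ((x ^ e * y : ↥(S : Subgroup G)) : G) with hy'
  have hzT : z ∈ T := by
    rw [hz, hmemT, h.x_mem_part]; push_cast; exact dvd_rfl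
  have hyT : y' ∈ T := by rw [hy', hmemT, h.xy_mem_part]; simp
  obtain ⟨g, hg⟩ := isConj_iff.mp ((isConj_xy h (i := e) (i' := 0) (by simpa using he.neg_right)).trans hcon.symm)
  -- move `T` into `S`
  set P := T.map (MulAut.conj g).toMonoidHom with hP
  have hcomm : ∀ t ∈ T, Commute t y' := fun t ht =>
    congrArg Subtype.val (mul_comm_of_exponent_two (G := T) IsKleinFour.exponent_two ⟨t, ht⟩ ⟨y', hyT⟩)
  have hPC : P ≤ Subgroup.centralizer ({z} : Set G) := by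
    rintro _ ⟨t, ht, rfl⟩
    rw [Subgroup.mem_centralizer_singleton_iff, ← hg]
    show g * t * g⁻¹ * (g * y' * g⁻¹) = g * y' * g⁻¹ * (g * t * g⁻¹)
    calc g * t * g⁻¹ * (g * y' * g⁻¹) = g * (t * y') * g⁻¹ := by group
      _ = g * (y' * t) * g⁻¹ := by rw [(hcomm t ht).eq]
      _ = g * y' * g⁻¹ * (g * t * g⁻¹) := by group
  have hTp : IsPGroup 2 T := IsPGroup.of_card (n := 2) (by rw [IsKleinFour.card_four]; norm_num)
  obtain ⟨c, hc, hcP⟩ := exists_conj_le (S := S) (C := Subgroup.centralizer ({z} : Set G))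
    (fun s hs => mem_centralizer_zz h ⟨s, hs⟩) (hTp.map _) hPC
  set k := c * g with hk
  set T' := T.map (MulAut.conj k).toMonoidHom with hT'
  have hT'S : T' ≤ (S : Subgroup G) := by
    rintro _ ⟨t, ht, rfl⟩
    have e1 : k * t * k⁻¹ = c * (g * t * g⁻¹) * c⁻¹ := by rw [hk]; group
    show k * t * k⁻¹ ∈ (S : Subgroup G)
    rw [e1]
    exact hcP _ ⟨t, ht, rfl⟩
  have hT'K : IsKleinFour T' := by
    have e1 := T.equivMapOfInjective (MulAut.conj k).toMonoidHom (MulAut.conj k).injective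
    exact ⟨(Nat.card_congr e1.symm.toEquiv).trans IsKleinFour.card_four,
      (Monoid.exponent_eq_of_mulEquiv e1.symm).trans IsKleinFour.exponent_two⟩
  obtain ⟨e', he', hpart'⟩ := klein_part h hT'K hT'S
  obtain ⟨s, hs⟩ := h.exists_map_part (QDGen.dvd_four_self m) (e := e') (e' := e) (dvd_sub he he')
  set n := (s : G) * k with hn
  have hnT : ∀ t ∈ T, n * t * n⁻¹ ∈ T := by
    intro t ht
    have h1 : k * t * k⁻¹ ∈ T' := ⟨t, ht, rfl⟩
    have h2 : (⟨_, hT'S h1⟩ : ↥(S : Subgroup G)) ∈ h.part (4 * 2 ^ m) (QDGen.dvd_four_self m) e' :=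
      hpart' ▸ h1
    have h3 : s * ⟨_, hT'S h1⟩ * s⁻¹ ∈ h.part (4 * 2 ^ m) (QDGen.dvd_four_self m) e :=
      hs ▸ ⟨_, h2, rfl⟩
    have h4 := hmemT.mpr h3
    have e1 : n * t * n⁻¹ = (s : G) * (k * t * k⁻¹) * (s : G)⁻¹ := by rw [hn]; group
    rw [e1]
    exact h4
  have hnN : n ∈ Subgroup.normalizer (T : Set G) := Transfer.mem_normalizer_of_conj_mem hnT
  have hny : n * y' * n⁻¹ = z := by
    have e1 : n * y' * n⁻¹ = (s : G) * (c * (g * y' * g⁻¹) * c⁻¹) * (s : G)⁻¹ := by rw [hn, hk]; group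
    rw [e1, hg]
    have e2 : c * z * c⁻¹ = z := by
      rw [Subgroup.mem_centralizer_singleton_iff.mp hc, mul_inv_cancel_right]
    rw [e2]
    exact congrArg Subtype.val (conj_zz h s)
  -- the automizer has order two
  set t₀ : G := ((aa x m : ↥(S : Subgroup G)) : G) with ht₀
  have ht₀N : t₀ ∈ Subgroup.normalizer (T : Set G) := by
    refine Transfer.mem_normalizer_of_conj_mem fun t ht => ?_
    have h2 : (⟨t, hTS ht⟩ : ↥(S : Subgroup G)) ∈ h.part (4 * 2 ^ m) (QDGen.dvd_four_self m) e :=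
      hpart ▸ ht
    have h3 : aa x m * ⟨t, hTS ht⟩ * (aa x m)⁻¹ ∈ h.part (4 * 2 ^ m) (QDGen.dvd_four_self m) e := by
      have h5 : (h.part (4 * 2 ^ m) (QDGen.dvd_four_self m) e).map (MulAut.conj (aa x m)).toMonoidHom =
          h.part (4 * 2 ^ m) (QDGen.dvd_four_self m) e := by
        rw [h.map_part]
        refine h.part_congr _ ⟨1 - 2 * 2 ^ m, ?_⟩
        push_cast
        ring
      exact h5 ▸ ⟨_, h2, rfl⟩
    exact hmemT.mpr h3
  set C := Subgroup.centralizer (T : Set G) with hCdef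
  set N := Subgroup.normalizer (T : Set G) with hNdef
  have hidx : (C.subgroupOf N).index = 2 := h₁
  have hne : y' ≠ z := fun e1 => h.xy_ne e ((4 : ℤ) * 2 ^ m) (Subtype.ext e1)
  have hnC : (⟨n, hnN⟩ : N) ∉ C.subgroupOf N := fun hmem => hne (by
    rw [← hny, ← Subgroup.mem_centralizer_iff.mp (Subgroup.mem_subgroupOf.mp hmem) y' hyT,
      mul_inv_cancel_right])
  have ht₀C : (⟨t₀, ht₀N⟩ : N) ∉ C.subgroupOf N := fun hmem => by
    have h6 : aa x m * (x ^ e * y) = x ^ e * y * aa x m :=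
      Subtype.ext (Subgroup.mem_centralizer_iff.mp (Subgroup.mem_subgroupOf.mp hmem) y' hyT).symm
    rw [QDGen.x_mul_xy, h.xy_mul_x, h.xy_eq_iff] at h6
    obtain ⟨c, hc⟩ := h6
    have hp : (2 : ℤ) ^ m ≠ 0 := by positivity
    have h7 : (2 : ℤ) ^ m * (4 - 8 * 2 ^ m - 8 * c) = 0 := by linear_combination hc
    rcases mul_eq_zero.mp h7 with h8 | h8
    · exact hp h8
    · omega
  have hmem := (Subgroup.mul_mem_iff_of_index_two hidx (a := (⟨t₀, ht₀N⟩ : N)⁻¹) (b := ⟨n, hnN⟩)).mpr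
    (by simp [hnC, ht₀C])
  have h9 : (t₀⁻¹ * n) * z * (t₀⁻¹ * n)⁻¹ = z := by
    have h10 : z * (t₀⁻¹ * n) = t₀⁻¹ * n * z :=
      Subgroup.mem_centralizer_iff.mp (Subgroup.mem_subgroupOf.mp hmem) z hzT
    rw [← h10, mul_inv_cancel_right]
  have h11 : n * z * n⁻¹ = z := by
    calc n * z * n⁻¹ = t₀ * ((t₀⁻¹ * n) * z * (t₀⁻¹ * n)⁻¹) * t₀⁻¹ := by group
      _ = t₀ * z * t₀⁻¹ := by rw [h9]
      _ = z := congrArg Subtype.val (conj_zz h (aa x m))
  exact hne (mul_left_cancel (mul_right_cancel (hny.trans h11.symm)))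

theorem quaternion_data {Q : Subgroup G} (eQ : Q ≃* QuaternionGroup 2)
    (hQS : Q ≤ (S : Subgroup G)) :
    ∃ e : ℤ, ¬ 2 ∣ e ∧ (∀ g : ↥(S : Subgroup G), (g : G) ∈ Q ↔
      g ∈ h.part (2 * 2 ^ m) (QDGen.dvd_two_self m) e) ∧
      ((aa x m : ↥(S : Subgroup G)) : G) ∈ Q ∧ ((x ^ e * y : ↥(S : Subgroup G)) : G) ∈ Q ∧
      ((x ^ ((2 : ℤ) ^ m) : ↥(S : Subgroup G)) : G) ∈ Subgroup.normalizer (Q : Set G) ∧
      ((x ^ ((2 : ℤ) ^ m) : ↥(S : Subgroup G)) : G) ∉ Q ⊔ Subgroup.centralizer (Q : Set G) := by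
  obtain ⟨e, he, hpart⟩ := quaternion_part h eQ hQS
  have hmem : ∀ g : ↥(S : Subgroup G), (g : G) ∈ Q ↔
      g ∈ h.part (2 * 2 ^ m) (QDGen.dvd_two_self m) e := fun g => by rw [← hpart]; rfl
  have haQ : ((aa x m : ↥(S : Subgroup G)) : G) ∈ Q := by
    rw [hmem, h.x_mem_part]; push_cast; exact dvd_rfl
  have hbQ : ((x ^ e * y : ↥(S : Subgroup G)) : G) ∈ Q := by rw [hmem, h.xy_mem_part]; simp
  refine ⟨e, he, hmem, haQ, hbQ, ?_, ?_⟩
  · refine Transfer.mem_normalizer_of_conj_mem fun t ht => ?_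
    have h2 := (hmem ⟨t, hQS ht⟩).mp ht
    have h5 : (h.part (2 * 2 ^ m) (QDGen.dvd_two_self m) e).map
        (MulAut.conj (x ^ ((2 : ℤ) ^ m))).toMonoidHom =
        h.part (2 * 2 ^ m) (QDGen.dvd_two_self m) e := by
      rw [h.map_part]
      refine h.part_congr _ ⟨1 - 2 * 2 ^ m, ?_⟩
      push_cast
      ring
    exact (hmem (x ^ ((2 : ℤ) ^ m) * ⟨t, hQS ht⟩ * (x ^ ((2 : ℤ) ^ m))⁻¹)).mpr (h5 ▸ ⟨_, h2, rfl⟩)
  · intro hsup
    have hn : Q ≤ Subgroup.normalizer ((Subgroup.centralizer (Q : Set G) : Subgroup G) : Set G) := by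
      intro q hq
      refine Transfer.mem_normalizer_of_conj_mem fun w hw => ?_
      rw [Subgroup.mem_centralizer_iff] at hw ⊢
      intro v hv
      have h1 := hw (q⁻¹ * v * q) (Q.mul_mem (Q.mul_mem (Q.inv_mem hq) hv) hq)
      calc v * (q * w * q⁻¹) = q * ((q⁻¹ * v * q) * w) * q⁻¹ := by group
        _ = q * w * q⁻¹ * v := by rw [h1]; group
    have hsup' : ((x ^ ((2 : ℤ) ^ m) : ↥(S : Subgroup G)) : G) ∈
        ((Q ⊔ Subgroup.centralizer (Q : Set G) : Subgroup G) : Set G) := hsup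
    rw [Subgroup.coe_mul_of_left_le_normalizer_right _ _ hn] at hsup'
    obtain ⟨q, hq, w, hw, hqw⟩ := hsup'
    have hqw' : q * w = ((x ^ ((2 : ℤ) ^ m) : ↥(S : Subgroup G)) : G) := hqw
    have hwS : w ∈ (S : Subgroup G) := by
      have e1 : w = q⁻¹ * ((x ^ ((2 : ℤ) ^ m) : ↥(S : Subgroup G)) : G) := by rw [← hqw']; group
      rw [e1]
      exact mul_mem (inv_mem (hQS hq)) (SetLike.coe_mem _)
    have hwQ : w ∈ Q := by
      obtain ⟨i, hi⟩ := h.exists_form ⟨w, hwS⟩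
      have hc1 : ⟨w, hwS⟩ * aa x m = aa x m * ⟨w, hwS⟩ :=
        Subtype.ext (Subgroup.mem_centralizer_iff.mp hw _ haQ).symm
      have hc2 : ⟨w, hwS⟩ * (x ^ e * y) = x ^ e * y * ⟨w, hwS⟩ :=
        Subtype.ext (Subgroup.mem_centralizer_iff.mp hw _ hbQ).symm
      rcases hi with hi | hi
      · rw [hi, QDGen.x_mul_xy, h.xy_mul_x, h.xy_eq_iff] at hc2
        have h2 : (4 : ℤ) * 2 ^ m ∣ i := h.dvd_of_fixed (by
          obtain ⟨c, hc⟩ := hc2
          exact ⟨-c, by linarith⟩)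
        refine (hmem ⟨w, hwS⟩).mpr ?_
        rw [hi, h.x_mem_part]
        push_cast
        exact dvd_trans ⟨2, by ring⟩ h2
      · rw [hi, h.xy_mul_x, QDGen.x_mul_xy, h.xy_eq_iff] at hc1
        obtain ⟨c, hc⟩ := hc1
        have h7 : (2 : ℤ) ^ m * (8 * 2 ^ m - 4 - 8 * c) = 0 := by linear_combination hc
        rcases mul_eq_zero.mp h7 with h8 | h8
        · exact absurd h8 (by positivity)
        · omega
    have hsQ := Q.mul_mem hq hwQ
    rw [hqw', hmem, h.x_mem_part] at hsQ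
    have h9 := Int.le_of_dvd (by positivity) hsQ
    push_cast at h9
    have : (0 : ℤ) < 2 ^ m := by positivity
    linarith

theorem zpow_aa (k : ℤ) : (aa x m) ^ k = x ^ ((2 : ℤ) * 2 ^ m * k) := (zpow_mul x _ k).symm

theorem xy_mul_zpow_aa (e k : ℤ) :
    x ^ e * y * (aa x m) ^ k = x ^ (e + (4 * 2 ^ m - 1) * (2 * 2 ^ m * k)) * y := by
  rw [zpow_aa h, h.xy_mul_x]

/-- `x ^ (2^m)` acts on `Q = ⟨aa, x ^ e * y⟩` as an outer automorphism. -/
theorem conj_xy_by_root (e : ℤ) : ∃ σ : ℤ, ¬ 2 ∣ σ ∧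
    x ^ ((2 : ℤ) ^ m) * (x ^ e * y) * (x ^ ((2 : ℤ) ^ m))⁻¹ = x ^ e * y * (aa x m) ^ σ := by
  rcases Int.even_or_odd' ((2 : ℤ) ^ m) with ⟨d, hd | hd⟩
  · refine ⟨-1, by norm_num, ?_⟩
    rw [h.conj_xy_by_x, xy_mul_zpow_aa h, h.xy_eq_iff]
    exact ⟨d, by linear_combination 4 * (2 : ℤ) ^ m * hd⟩
  · refine ⟨1, by norm_num, ?_⟩
    rw [h.conj_xy_by_x, xy_mul_zpow_aa h, h.xy_eq_iff]
    exact ⟨-1 - 3 * d, by linear_combination -12 * (2 : ℤ) ^ m * hd⟩

theorem xy_zpow_two_mul (e c : ℤ) : (x ^ e * y) ^ (2 * c) = x ^ ((4 : ℤ) * 2 ^ m * e * c) := by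
  rw [zpow_mul, zpow_ofNat, h.xy_sq, ← zpow_mul]

theorem conj_aa_by_x (i : ℤ) : x ^ i * aa x m * (x ^ i)⁻¹ = aa x m := by
  rw [← zpow_neg, ← zpow_add, ← zpow_add, h.zpow_eq_iff]
  exact ⟨0, by ring⟩

theorem xy_inverts_aa (e : ℤ) : x ^ e * y * aa x m * (x ^ e * y)⁻¹ = (aa x m)⁻¹ := by
  rw [h.conj_x_by_xy, ← zpow_neg, h.zpow_eq_iff]
  exact ⟨2 ^ m, by ring⟩

theorem conj_xy_by_aa (e j : ℤ) :
    (aa x m) ^ j * (x ^ e * y) * ((aa x m) ^ j)⁻¹ = x ^ e * y * (aa x m) ^ (-2 * j) := by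
  rw [zpow_aa h, h.conj_xy_by_x, xy_mul_zpow_aa h, h.xy_eq_iff]
  exact ⟨2 ^ m * j, by ring⟩

/-- If every element of `N(Q)` fixes the subgroup `⟨aa⟩` the automizer is small. -/
theorem mem_or_mem_of_fixes {Q : Subgroup G} {e : ℤ}
    (hmem : ∀ g : ↥(S : Subgroup G), (g : G) ∈ Q ↔
      g ∈ h.part (2 * 2 ^ m) (QDGen.dvd_two_self m) e)
    (hQS : Q ≤ (S : Subgroup G)) {n : G} (hn : n ∈ Subgroup.normalizer (Q : Set G))
    (hfix : n * ((aa x m : ↥(S : Subgroup G)) : G) * n⁻¹ = ((aa x m : ↥(S : Subgroup G)) : G) ∨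
      n * ((aa x m : ↥(S : Subgroup G)) : G) * n⁻¹ = (((aa x m)⁻¹ : ↥(S : Subgroup G)) : G)) :
    n ∈ Q ⊔ Subgroup.centralizer (Q : Set G) ∨
      ((x ^ ((2 : ℤ) ^ m) : ↥(S : Subgroup G)) : G)⁻¹ * n ∈ Q ⊔ Subgroup.centralizer (Q : Set G) := by
  set QC := Q ⊔ Subgroup.centralizer (Q : Set G) with hQC
  set a : G := ((aa x m : ↥(S : Subgroup G)) : G) with ha
  set b : G := ((x ^ e * y : ↥(S : Subgroup G)) : G) with hb
  set r : G := ((x ^ ((2 : ℤ) ^ m) : ↥(S : Subgroup G)) : G) with hr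
  have haQ : a ∈ Q := by rw [ha, hmem, h.x_mem_part]; push_cast; exact dvd_rfl
  have hbQ : b ∈ Q := by rw [hb, hmem, h.xy_mem_part]; simp
  have hba : b * a * b⁻¹ = a⁻¹ := congrArg Subtype.val (xy_inverts_aa h e)
  have hra : r * a * r⁻¹ = a := congrArg Subtype.val (conj_aa_by_x h ((2 : ℤ) ^ m))
  have hab : ∀ j : ℤ, a ^ j * b * (a ^ j)⁻¹ = b * a ^ (-2 * j) := fun j => by
    exact congrArg Subtype.val (conj_xy_by_aa h e j)
  obtain ⟨σ, hσ, hσe⟩ := conj_xy_by_root h e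
  have hrb : r * b * r⁻¹ = b * a ^ σ := by
    exact congrArg Subtype.val hσe
  have hgen : ∀ g ∈ Q, (∃ k : ℤ, g = a ^ k) ∨ ∃ k : ℤ, g = b * a ^ k := by
    intro g hg
    have h1 := (hmem ⟨g, hQS hg⟩).mp hg
    obtain ⟨i, hi | hi⟩ := h.exists_form ⟨g, hQS hg⟩
    · rw [hi, h.x_mem_part] at h1
      push_cast at h1
      obtain ⟨c, rfl⟩ := h1
      rw [← zpow_aa h] at hi
      exact Or.inl ⟨c, congrArg Subtype.val hi⟩
    · rw [hi, h.xy_mem_part] at h1
      push_cast at h1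
      obtain ⟨c, hc⟩ := h1
      have e1 : x ^ i * y = x ^ e * y * (aa x m) ^ (-c) := by
        rw [xy_mul_zpow_aa h, h.xy_eq_iff]
        exact ⟨2 ^ m * c, by linear_combination hc⟩
      exact Or.inr ⟨-c, congrArg Subtype.val (hi.trans e1)⟩
  -- reduce to `n` centralising `a`
  obtain ⟨q, hq, hqa⟩ : ∃ q ∈ Q, (n * q) * a * (n * q)⁻¹ = a := by
    rcases hfix with h1 | h1
    · exact ⟨1, Q.one_mem, by simpa using h1⟩
    · refine ⟨b, hbQ, ?_⟩
      have h1' : n * a * n⁻¹ = a⁻¹ := h1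
      calc n * b * a * (n * b)⁻¹ = n * (b * a * b⁻¹) * n⁻¹ := by group
        _ = (n * a * n⁻¹)⁻¹ := by rw [hba]; group
        _ = a := by rw [h1', inv_inv]
  set n' := n * q with hn'
  have hn'N : n' ∈ Subgroup.normalizer (Q : Set G) := mul_mem hn (Subgroup.le_normalizer hq)
  obtain ⟨k, hk⟩ : ∃ k : ℤ, n' * b * n'⁻¹ = b * a ^ k := by
    rcases hgen _ ((Subgroup.mem_normalizer_iff.mp hn'N b).mp hbQ) with ⟨k, hk⟩ | hk
    · exfalso
      have e2 : b = a ^ k := by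
        have e3 : n' * a ^ k * n'⁻¹ = a ^ k := by rw [← conj_zpow, hqa]
        calc b = n'⁻¹ * (n' * b * n'⁻¹) * n' := by group
          _ = n'⁻¹ * (n' * a ^ k * n'⁻¹) * n' := by rw [hk, e3]
          _ = a ^ k := by group
      have e4 : x ^ e * y = (aa x m) ^ k := Subtype.ext e2
      rw [zpow_aa h] at e4
      exact h.xy_ne _ _ e4
    · exact hk
  obtain ⟨w, hw, hwa, hwb⟩ : ∃ w : G, (w ∈ QC ∨ r⁻¹ * w ∈ QC) ∧
      w * a * w⁻¹ = a ∧ w * b * w⁻¹ = b * a ^ k := by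
    have hpow : ∀ j : ℤ, a ^ j * a * (a ^ j)⁻¹ = a := fun j => by group
    rcases Int.even_or_odd' k with ⟨t, rfl | rfl⟩
    · refine ⟨a ^ (-t), Or.inl (Subgroup.mem_sup_left (Q.zpow_mem haQ _)), hpow _, ?_⟩
      rw [hab, show -2 * -t = 2 * t by ring]
    · obtain ⟨u, hu⟩ : ∃ u : ℤ, σ = 2 * u + 1 := ⟨σ / 2, by omega⟩
      refine ⟨r * a ^ (u - t), Or.inr ?_, ?_, ?_⟩
      · rw [inv_mul_cancel_left]; exact Subgroup.mem_sup_left (Q.zpow_mem haQ _)
      · calc r * a ^ (u - t) * a * (r * a ^ (u - t))⁻¹ = r * (a ^ (u - t) * a * (a ^ (u - t))⁻¹) * r⁻¹ := by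
              group
          _ = a := by rw [hpow, hra]
      · calc r * a ^ (u - t) * b * (r * a ^ (u - t))⁻¹ = r * (a ^ (u - t) * b * (a ^ (u - t))⁻¹) * r⁻¹ := by
              group
          _ = r * b * r⁻¹ * (r * a * r⁻¹) ^ (-2 * (u - t)) := by rw [hab, conj_zpow]; group
          _ = b * a ^ (2 * t + 1) := by
              rw [hrb, hra, mul_assoc, ← zpow_add, hu]; ring_nf
  set c := w⁻¹ * n' with hc
  have hca : c * a = a * c := by
    have e1 : c * a * c⁻¹ = a := by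
      calc c * a * c⁻¹ = w⁻¹ * (n' * a * n'⁻¹) * w := by rw [hc]; group
        _ = w⁻¹ * (w * a * w⁻¹) * w := by rw [hqa, hwa]
        _ = a := by group
    exact mul_inv_eq_iff_eq_mul.mp e1
  have hcb : c * b = b * c := by
    have e1 : c * b * c⁻¹ = b := by
      calc c * b * c⁻¹ = w⁻¹ * (n' * b * n'⁻¹) * w := by rw [hc]; group
        _ = w⁻¹ * (w * b * w⁻¹) * w := by rw [hk, hwb]
        _ = b := by group
    exact mul_inv_eq_iff_eq_mul.mp e1
  have hcC : c ∈ Subgroup.centralizer (Q : Set G) := by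
    rw [Subgroup.mem_centralizer_iff]
    intro g hg
    have hca' : ∀ j : ℤ, Commute c (a ^ j) := fun j => Commute.zpow_right (show Commute c a from hca) j
    rcases hgen g hg with ⟨j, rfl⟩ | ⟨j, rfl⟩
    · exact (hca' j).eq.symm
    · exact ((show Commute c b from hcb).mul_right (hca' j)).eq.symm
  have hcq : c * q⁻¹ ∈ QC :=
    QC.mul_mem (Subgroup.mem_sup_right hcC) (Subgroup.mem_sup_left (Q.inv_mem hq))
  rcases hw with hw | hw
  · left
    have e1 : n = w * (c * q⁻¹) := by rw [hc, hn']; group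
    rw [e1]; exact QC.mul_mem hw hcq
  · right
    have e1 : r⁻¹ * n = r⁻¹ * w * (c * q⁻¹) := by rw [hc, hn']; group
    rw [e1]; exact QC.mul_mem hw hcq

theorem isConj_aa_of_six {Q : Subgroup G} (eQ : Q ≃* QuaternionGroup 2)
    (hQS : Q ≤ (S : Subgroup G))
    (h₂ : (Q ⊔ Subgroup.centralizer (Q : Set G)).relIndex (Subgroup.normalizer (Q : Set G)) = 6)
    {u : G} (hu : orderOf u = 4) : IsConj u ((aa x m : ↥(S : Subgroup G)) : G) := by
  obtain ⟨e, he, hmem, haQ, hbQ, hrN, -⟩ := quaternion_data h eQ hQS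
  suffices key : IsConj ((x ^ e * y : ↥(S : Subgroup G)) : G) ((aa x m : ↥(S : Subgroup G)) : G) by
    rcases isConj_order_four h hu with h' | h'
    · exact h'
    · exact (h'.trans (isConj_xy h (by omega))).trans key
  by_contra hcon
  set N := Subgroup.normalizer (Q : Set G) with hN
  set QC := Q ⊔ Subgroup.centralizer (Q : Set G) with hQC
  have key : ∀ n ∈ N, n ∈ QC ∨ ((x ^ ((2 : ℤ) ^ m) : ↥(S : Subgroup G)) : G)⁻¹ * n ∈ QC := by
    intro n hn
    refine mem_or_mem_of_fixes h hmem hQS hn ?_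
    have h1 : n * ((aa x m : ↥(S : Subgroup G)) : G) * n⁻¹ ∈ Q :=
      (Subgroup.mem_normalizer_iff.mp hn _).mp haQ
    have h2 : orderOf (⟨_, hQS h1⟩ : ↥(S : Subgroup G)) = 4 := by
      rw [Subgroup.orderOf_mk, ← MulAut.conj_apply, MulEquiv.orderOf_eq, orderOf_aa h]
    rcases eq_aa_or_xy h h2 with h3 | h3 | ⟨i, hi, h3⟩
    · exact Or.inl (congrArg Subtype.val h3)
    · exact Or.inr (congrArg Subtype.val h3)
    · refine absurd ?_ hcon
      exact (isConj_xy h (by omega)).trans (isConj_iff.mpr ⟨n, congrArg Subtype.val h3⟩).symm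
  let f : Bool → N ⧸ QC.subgroupOf N := fun b =>
    if b then QuotientGroup.mk ⟨_, hrN⟩ else QuotientGroup.mk 1
  have hsurj : Function.Surjective f := by
    intro q
    induction q using QuotientGroup.induction_on with
    | _ n =>
      rcases key n n.2 with h1 | h1
      · exact ⟨false, QuotientGroup.eq.mpr (by simpa [f, Subgroup.mem_subgroupOf] using h1)⟩
      · exact ⟨true, QuotientGroup.eq.mpr (by simpa [f, Subgroup.mem_subgroupOf] using h1)⟩
  have hle := Nat.card_le_card_of_surjective f hsurj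
  rw [← Subgroup.index_eq_card, Nat.card_eq_fintype_card, Fintype.card_bool] at hle
  change QC.relIndex N ≤ 2 at hle
  omega

theorem not_isConj_aa_of_two {Q : Subgroup G} (eQ : Q ≃* QuaternionGroup 2)
    (hQS : Q ≤ (S : Subgroup G))
    (h₂ : (Q ⊔ Subgroup.centralizer (Q : Set G)).relIndex (Subgroup.normalizer (Q : Set G)) = 2) :
    ¬ IsConj ((aa x m : ↥(S : Subgroup G)) : G) ((x ^ (1 : ℤ) * y : ↥(S : Subgroup G)) : G) := by
  intro hcon
  haveI : Fact (Nat.Prime 2) := ⟨Nat.prime_two⟩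
  obtain ⟨e, he, hmem, haQ, hbQ, hrN, hrQC⟩ := quaternion_data h eQ hQS
  set a : G := ((aa x m : ↥(S : Subgroup G)) : G) with ha
  set b : G := ((x ^ e * y : ↥(S : Subgroup G)) : G) with hb
  set r : G := ((x ^ ((2 : ℤ) ^ m) : ↥(S : Subgroup G)) : G) with hr
  set A : Subgroup G := Subgroup.zpowers a with hA
  set M := Subgroup.normalizer (A : Set G) with hM
  have hSM : (S : Subgroup G) ≤ M := fun s hs => conj_mem_zpowers_aa h ⟨s, hs⟩
  have hbA : b ∉ A := by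
    intro hb'
    obtain ⟨k, hk⟩ := Subgroup.mem_zpowers_iff.mp hb'
    have e4 : x ^ e * y = (aa x m) ^ k := Subtype.ext hk.symm
    rw [zpow_aa h] at e4
    exact h.xy_ne _ _ e4
  obtain ⟨g, hg⟩ := isConj_iff.mp ((isConj_xy h (i := e) (i' := 1) (by omega)).trans hcon.symm)
  -- `Q` normalises `⟨b⟩`
  have hQb : Q ≤ Subgroup.normalizer ((Subgroup.zpowers b : Subgroup G) : Set G) := by
    intro q hq
    refine Transfer.mem_normalizer_of_conj_mem fun w hw => ?_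
    obtain ⟨k, rfl⟩ := Subgroup.mem_zpowers_iff.mp hw
    rw [← conj_zpow]
    refine zpow_mem ?_ k
    obtain ⟨i, hi | hi⟩ := h.exists_form ⟨q, hQS hq⟩
    · have h1 := (hmem ⟨q, hQS hq⟩).mp hq
      rw [hi, h.x_mem_part] at h1
      push_cast at h1
      obtain ⟨c, rfl⟩ := h1
      rw [← zpow_aa h] at hi
      have e1 : (aa x m) ^ c * (x ^ e * y) * ((aa x m) ^ c)⁻¹ = (x ^ e * y) ^ (1 + 2 * c) := by
        rw [conj_xy_by_aa h, zpow_add, zpow_one, xy_zpow_two_mul h, xy_mul_zpow_aa h, h.xy_mul_x,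
          h.xy_eq_iff]
        obtain ⟨d, hd⟩ : ∃ d : ℤ, e = 2 * d + 1 := ⟨e / 2, by omega⟩
        exact ⟨-((4 * 2 ^ m - 1) * c * (1 + d)), by rw [hd]; ring⟩
      have e2 := congrArg Subtype.val e1
      rw [← hi] at e2
      simp only [Subgroup.coe_mul, Subgroup.coe_inv, Subgroup.coe_zpow] at e2
      rw [show (x : G) ^ e * (y : G) = b by simp [hb]] at e2
      rw [e2]
      exact zpow_mem (Subgroup.mem_zpowers b) _
    · have h1 := (hmem ⟨q, hQS hq⟩).mp hq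
      rw [hi, h.xy_mem_part] at h1
      push_cast at h1
      obtain ⟨c, hc⟩ := h1
      have e1 : x ^ i * y * (x ^ e * y) * (x ^ i * y)⁻¹ = (x ^ e * y) ^ (1 + 2 * c) := by
        rw [h.conj_xy_by_xy, zpow_add, zpow_one, xy_zpow_two_mul h, h.xy_mul_x, h.xy_eq_iff]
        obtain ⟨d, hd⟩ : ∃ d : ℤ, e = 2 * d + 1 := ⟨e / 2, by omega⟩
        refine ⟨c * (1 + d) - 2 ^ m * c * (1 + 2 * e), ?_⟩
        rw [hd] at hc ⊢
        linear_combination (2 - 4 * 2 ^ m) * hc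
      have e2 := congrArg Subtype.val e1
      rw [← hi] at e2
      simp only [Subgroup.coe_mul, Subgroup.coe_inv, Subgroup.coe_zpow] at e2
      rw [show (x : G) ^ e * (y : G) = b by simp [hb]] at e2
      rw [e2]
      exact zpow_mem (Subgroup.mem_zpowers b) _
  have hQp : IsPGroup 2 Q := S.2.to_le hQS
  have hPM : Q.map (MulAut.conj g).toMonoidHom ≤ M := by
    have e1 : A = (Subgroup.zpowers b).map (MulAut.conj g).toMonoidHom := by
      rw [MonoidHom.map_zpowers, MulEquiv.coe_toMonoidHom, MulAut.conj_apply, hg]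
    rw [hM, e1, ← Subgroup.map_equiv_normalizer_eq]
    exact Subgroup.map_mono hQb
  obtain ⟨c, hc, hcP⟩ := exists_conj_le (S := S) hSM (hQp.map _) hPM
  set k := c * g with hk
  set Q' := Q.map (MulAut.conj k).toMonoidHom with hQ'
  have hQ'S : Q' ≤ (S : Subgroup G) := by
    rintro _ ⟨t, ht, rfl⟩
    have e1 : k * t * k⁻¹ = c * (g * t * g⁻¹) * c⁻¹ := by rw [hk]; group
    show k * t * k⁻¹ ∈ (S : Subgroup G)
    rw [e1]
    exact hcP _ ⟨t, ht, rfl⟩
  obtain ⟨e', he', hpart'⟩ := quaternion_part h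
    ((Q.equivMapOfInjective (MulAut.conj k).toMonoidHom (MulAut.conj k).injective).symm.trans eQ) hQ'S
  obtain ⟨s, hs⟩ := h.exists_map_part (QDGen.dvd_two_self m) (e := e') (e' := e) (by omega)
  set n := (s : G) * k with hn
  have hnN : n ∈ Subgroup.normalizer (Q : Set G) := by
    refine Transfer.mem_normalizer_of_conj_mem fun t ht => ?_
    have h1 : k * t * k⁻¹ ∈ Q' := ⟨t, ht, rfl⟩
    have h2 : (⟨_, hQ'S h1⟩ : ↥(S : Subgroup G)) ∈ h.part (2 * 2 ^ m) (QDGen.dvd_two_self m) e' :=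
      hpart' ▸ h1
    have h3 : s * ⟨_, hQ'S h1⟩ * s⁻¹ ∈ h.part (2 * 2 ^ m) (QDGen.dvd_two_self m) e :=
      hs ▸ ⟨_, h2, rfl⟩
    have h4 := (hmem _).mpr h3
    have e1 : n * t * n⁻¹ = (s : G) * (k * t * k⁻¹) * (s : G)⁻¹ := by rw [hn]; group
    rw [e1]
    exact h4
  have hnb : n * b * n⁻¹ ∈ A := by
    have e1 : n * b * n⁻¹ = (s : G) * (c * (g * b * g⁻¹) * c⁻¹) * (s : G)⁻¹ := by rw [hn, hk]; group
    rw [e1, hg]
    exact (Subgroup.mem_normalizer_iff.mp (hSM s.2) _).mp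
      ((Subgroup.mem_normalizer_iff.mp hc _).mp (Subgroup.mem_zpowers a))
  -- all of `N(Q)` fixes `A`
  refine hbA ((Subgroup.mem_normalizer_iff.mp (?_ : n ∈ M) b).mpr hnb)
  set N := Subgroup.normalizer (Q : Set G) with hN
  set QC := Q ⊔ Subgroup.centralizer (Q : Set G) with hQC
  have hQCM : QC ≤ M := by
    refine sup_le (hQS.trans hSM) fun w hw => ?_
    refine Transfer.mem_normalizer_of_conj_mem fun v hv => ?_
    obtain ⟨j, rfl⟩ := Subgroup.mem_zpowers_iff.mp hv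
    rw [← Subgroup.mem_centralizer_iff.mp hw (a ^ j) (Q.zpow_mem haQ j), mul_inv_cancel_right]
    exact hv
  by_cases hnQC : (⟨n, hnN⟩ : N) ∈ QC.subgroupOf N
  · exact hQCM hnQC
  · have h4 := (Subgroup.mul_mem_iff_of_index_two (h₂ : (QC.subgroupOf N).index = 2)
      (a := (⟨r, hrN⟩ : N)⁻¹) (b := ⟨n, hnN⟩)).mpr
      (by
        have h5 : (⟨r, hrN⟩ : N) ∉ QC.subgroupOf N := hrQC
        simp [hnQC, h5])
    have h6 : r * (r⁻¹ * n) ∈ M :=
      M.mul_mem (conj_mem_zpowers_aa h _) (hQCM (Subgroup.mem_subgroupOf.mp h4))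
    rwa [mul_inv_cancel_left] at h6

end

end Cfsg.Agent.QDFusion
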