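import Cfsg.Agent.Lib.QDFusion.Basic
import Cfsg.Agent.Lib.SylowCount.Basic
import Cfsg.Agent.Lib.Transfer.Residual

/-!
# Quasi-dihedral Sylow 2-subgroups: subgroups of index two
-/

set_option autoImplicit false
set_option linter.style.haveILetI false
set_option linter.unusedSectionVars false

namespace Cfsg.Agent.QDFusion

open TwoGroups

/-- An element of odd order lies in every normal subgroup of index two. -/
theorem mem_of_odd_of_index_two {G : Type*} [Group G] {M : Subgroup G} (hM : M.index = 2) {g : G}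
    (hg : Odd (orderOf g)) : g ∈ M := by
  haveI := Subgroup.normal_of_index_eq_two hM
  obtain ⟨k, hk⟩ := hg
  have h1 : g = (g ^ (k + 1)) ^ 2 := by
    rw [← pow_mul, show (k + 1) * 2 = orderOf g + 1 by omega, pow_succ, pow_orderOf_eq_one, one_mul]
  rw [h1]
  exact Subgroup.sq_mem_of_index_two hM _

/-- Conjugate elements are congruent modulo a subgroup of index two. -/
theorem mul_inv_mem_of_conj {G : Type*} [Group G] {H : Subgroup G} (hH : H.index = 2) (g u : G) :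
    g * u * g⁻¹ * u⁻¹ ∈ H := by
  haveI := Subgroup.normal_of_index_eq_two hH
  rw [Subgroup.mul_mem_iff_of_index_two hH]
  rw [Subgroup.mul_mem_iff_of_index_two hH, Subgroup.mul_mem_iff_of_index_two hH, inv_mem_iff,
    inv_mem_iff]
  tauto

section

variable {G : Type*} [Group G] [Finite G] {S : Sylow 2 G} {x y : ↥(S : Subgroup G)} {m : ℕ}
  (h : QDGen x y m)
include h

/-- `part 2 e` as a subgroup of `G`. -/
noncomputable abbrev bigPart (e : ℤ) : Subgroup G :=
  (h.part 2 (QDGen.dvd_two m) e).map (S : Subgroup G).subtype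

theorem mem_bigPart_iff {e : ℤ} {g : ↥(S : Subgroup G)} :
    (g : G) ∈ bigPart h e ↔ g ∈ h.part 2 (QDGen.dvd_two m) e :=
  ⟨fun ⟨_, ha, hag⟩ => Subtype.ext hag ▸ ha, fun hg => ⟨g, hg, rfl⟩⟩

theorem bigPart_le (e : ℤ) : bigPart h e ≤ (S : Subgroup G) := Subgroup.map_subtype_le _

theorem relIndex_bigPart (e : ℤ) : (bigPart h e).relIndex (S : Subgroup G) = 2 := by
  rw [Subgroup.relIndex, Subgroup.subgroupOf, Subgroup.comap_map_eq_self_of_injective
    (Subgroup.subtype_injective _)]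
  exact h.index_part_two e

/-- If the two classes of involutions of `S` are not fused there is a subgroup of index two missing `y`. -/
theorem exists_index_two_missing_involution
    (hne : ¬ IsConj ((zz x m : ↥(S : Subgroup G)) : G) ((x ^ (0 : ℤ) * y : ↥(S : Subgroup G)) : G)) :
    ∃ M : Subgroup G, M.Normal ∧ M.index = 2 ∧ ((x ^ (0 : ℤ) * y : ↥(S : Subgroup G)) : G) ∉ M := by
  refine Transfer.exists_index_two_of_involution S (bigPart h 1) (bigPart_le h 1) (relIndex_bigPart h 1)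
    _ ?_ (SetLike.coe_mem _) ?_ ?_
  · exact congrArg Subtype.val ((h.xy_sq_eq_one_iff (0 : ℤ)).2 (dvd_zero _))
  · rw [mem_bigPart_iff h, h.xy_mem_part]; omega
  · intro g hg
    set u : G := ((x ^ (0 : ℤ) * y : ↥(S : Subgroup G)) : G) with hu
    obtain ⟨s, hs, hsu⟩ := hg
    have ho : orderOf s = 2 := by
      rw [← Subgroup.orderOf_coe, show (s : G) = g * u * g⁻¹ from hsu, ← MulAut.conj_apply,
        MulEquiv.orderOf_eq, hu, orderOf_xy_even h (dvd_zero _)]
    rcases eq_zz_or_xy h ho with rfl | ⟨i, hi, rfl⟩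
    · exact hne (isConj_iff.mpr ⟨g, hsu.symm⟩).symm
    · have := (h.xy_mem_part _).1 hs
      omega

/-- If the two classes of elements of order 4 of `S` are not fused there is a subgroup of index two missing `x * y`. -/
theorem exists_index_two_missing_four
    (hne : ¬ IsConj ((aa x m : ↥(S : Subgroup G)) : G) ((x ^ (1 : ℤ) * y : ↥(S : Subgroup G)) : G)) :
    ∃ M : Subgroup G, M.Normal ∧ M.index = 2 ∧ ((x ^ (1 : ℤ) * y : ↥(S : Subgroup G)) : G) ∉ M := by
  set u : G := ((x ^ (1 : ℤ) * y : ↥(S : Subgroup G)) : G) with hu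
  have huo : orderOf u = 4 := orderOf_xy_odd h (by norm_num)
  refine Transfer.exists_index_two_of_conj S (bigPart h 0) (bigPart_le h 0) (relIndex_bigPart h 0)
    _ (SetLike.coe_mem _) ?_ ?_ ?_
  · rw [hu, mem_bigPart_iff h, h.xy_mem_part]; omega
  · intro g hg
    obtain ⟨s, hs, hsu⟩ := hg
    have hsu' : (s : G) = g⁻¹ * u * g := hsu
    have ho : orderOf s = 4 := by
      rw [← Subgroup.orderOf_coe, hsu']
      have := MulEquiv.orderOf_eq (MulAut.conj g⁻¹) u
      rw [MulAut.conj_apply, inv_inv] at this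
      rw [this, huo]
    have hconj : IsConj u (s : G) := isConj_iff.mpr ⟨g⁻¹, by rw [inv_inv, hsu']⟩
    rcases eq_aa_or_xy h ho with rfl | rfl | ⟨i, hi, rfl⟩
    · exact hne hconj.symm
    · exact hne (hconj.trans (isConj_aa_inv h)).symm
    · have := (h.xy_mem_part _).1 hs
      omega
  · intro g i hi hmem
    have h4 : u ^ 4 = 1 := by rw [← huo, pow_orderOf_eq_one]
    obtain ⟨j, rfl⟩ : ∃ j, i = j + 1 := ⟨i - 1, by omega⟩
    set s : ↥(S : Subgroup G) := ⟨_, hmem⟩ with hs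
    have hs2 : s ^ 2 = 1 := by
      apply Subtype.ext
      show (g⁻¹ * u ^ 2 ^ (j + 1) * g) ^ 2 = 1
      have e1 : u ^ 2 ^ (j + 1) * u ^ 2 ^ (j + 1) = 1 := by
        rw [← pow_add, pow_succ, show 2 ^ j * 2 + 2 ^ j * 2 = 4 * 2 ^ j by ring, pow_mul, h4, one_pow]
      calc (g⁻¹ * u ^ 2 ^ (j + 1) * g) ^ 2 = g⁻¹ * (u ^ 2 ^ (j + 1) * u ^ 2 ^ (j + 1)) * g := by
            rw [pow_two]; group
        _ = 1 := by rw [e1]; group
    show (s : G) ∈ bigPart h 0
    rw [mem_bigPart_iff h]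
    obtain ⟨l, hl | hl⟩ := h.exists_form s
    · rw [hl] at hs2 ⊢
      rw [h.x_mem_part]
      exact (dvd_trans ⟨2 * 2 ^ m, by ring⟩ ((h.x_sq_eq_one_iff l).1 hs2))
    · rw [hl] at hs2 ⊢
      rw [h.xy_mem_part]
      simpa using (h.xy_sq_eq_one_iff l).1 hs2

theorem x_even_mem {M : Subgroup G} (hM : M.index = 2) {i : ℤ} (hi : 2 ∣ i) :
    ((x ^ i : ↥(S : Subgroup G)) : G) ∈ M := by
  obtain ⟨j, rfl⟩ := hi
  rw [show (2 : ℤ) * j = j * 2 by ring, zpow_mul, zpow_two, Subgroup.coe_mul]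
  exact Subgroup.mul_self_mem_of_index_two hM _

theorem mem_iff_mem_part {M : Subgroup G} (hM : M.index = 2) {e d : ℤ}
    (hd : ¬ 2 ∣ d - e) (hin : ((x ^ e * y : ↥(S : Subgroup G)) : G) ∈ M)
    (hout : ((x ^ d * y : ↥(S : Subgroup G)) : G) ∉ M) (g : ↥(S : Subgroup G)) :
    (g : G) ∈ M ↔ g ∈ h.part 2 (QDGen.dvd_two m) e := by
  have hxy : ∀ i j : ℤ, 2 ∣ i - j →
      (((x ^ i * y : ↥(S : Subgroup G)) : G) ∈ M ↔ ((x ^ j * y : ↥(S : Subgroup G)) : G) ∈ M) := by
    intro i j hij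
    have e : x ^ i * y = x ^ (i - j) * (x ^ j * y) := by rw [QDGen.x_mul_xy, sub_add_cancel]
    rw [e, Subgroup.coe_mul, Subgroup.mul_mem_iff_of_index_two hM]
    have hx' := x_even_mem h hM hij
    tauto
  have hx : ∀ i : ℤ, ¬ 2 ∣ i → ((x ^ i : ↥(S : Subgroup G)) : G) ∉ M := by
    intro i hi hmem
    have h1 : ((x ^ (i + e) * y : ↥(S : Subgroup G)) : G) ∈ M := by
      rw [← QDGen.x_mul_xy, Subgroup.coe_mul]; exact M.mul_mem hmem hin
    exact hout ((hxy (i + e) d (by omega)).1 h1)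
  obtain ⟨i, rfl | rfl⟩ := h.exists_form g
  · rw [h.x_mem_part]
    push_cast
    exact ⟨fun hm => by by_contra hc; exact hx i hc hm, fun hi => x_even_mem h hM hi⟩
  · rw [h.xy_mem_part]
    push_cast
    constructor
    · intro hm
      by_contra hc
      exact hout ((hxy i d (by omega)).1 hm)
    · exact fun hi => (hxy i e hi).2 hin

/-- The Sylow 2-subgroups of a subgroup of index two with `M ∩ S = part 2 e`. -/
theorem nonempty_equiv_part {M : Subgroup G} [M.Normal] {e : ℤ}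
    (hmem : ∀ g : ↥(S : Subgroup G), (g : G) ∈ M ↔ g ∈ h.part 2 (QDGen.dvd_two m) e) (P : Sylow 2 M) :
    Nonempty ((P : Subgroup M) ≃* h.part 2 (QDGen.dvd_two m) e) := by
  haveI : Fact (Nat.Prime 2) := ⟨Nat.prime_two⟩
  obtain ⟨R, hR⟩ := SylowCount.exists_sylow_inf S M
  obtain ⟨c, hc⟩ := MulAction.exists_smul_eq M P R
  have e1 : (R : Subgroup M).map M.subtype = bigPart h e := by
    rw [hR, Subgroup.subgroupOf_map_subtype]
    ext g
    refine ⟨fun hg => ⟨⟨g, hg.1⟩, (hmem ⟨g, hg.1⟩).1 hg.2, rfl⟩, ?_⟩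
    rintro ⟨s, hs, rfl⟩
    exact ⟨s.2, (hmem s).2 hs⟩
  have hcP : (R : Subgroup M) = (P : Subgroup M).map (MulAut.conj c).toMonoidHom := by
    rw [← hc, Sylow.coe_subgroup_smul]; rfl
  exact ⟨(((P : Subgroup M).equivMapOfInjective (MulAut.conj c).toMonoidHom (MulAut.conj c).injective).trans
    (MulEquiv.subgroupCongr hcP.symm)).trans
    ((((R : Subgroup M).equivMapOfInjective M.subtype M.subtype_injective).trans
      (MulEquiv.subgroupCongr e1)).trans
      ((h.part 2 (QDGen.dvd_two m) e).equivMapOfInjective _ (Subgroup.subtype_injective _)).symm)⟩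

theorem nonempty_part_equiv_quaternion :
    Nonempty (h.part 2 (QDGen.dvd_two m) 1 ≃* QuaternionGroup (2 ^ (m + 1))) := by
  have hd := QDGen.dvd_two m
  have ha : x ^ (2 : ℕ) ∈ h.part 2 hd 1 := by
    rw [← zpow_natCast]; exact (h.x_mem_part hd).2 dvd_rfl
  have hb : x ^ (1 : ℤ) * y ∈ h.part 2 hd 1 := (h.xy_mem_part hd).2 (by simp)
  refine PGroup.quaternionEquivOfRel (a := ⟨_, ha⟩) (b := ⟨_, hb⟩) ?_ ?_ ?_ ?_ ?_
  · rw [Subgroup.orderOf_mk, orderOf_pow_of_dvd two_ne_zero ⟨4 * 2 ^ m, by rw [h.ordX]; ring⟩, h.ordX,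
      pow_succ]
    omega
  · rintro ⟨i, hi⟩
    have h1 : (x ^ (2 : ℕ)) ^ i = x ^ (1 : ℤ) * y := by simpa using congrArg Subtype.val hi
    rw [← zpow_natCast, ← zpow_mul] at h1
    exact h.xy_ne _ _ h1.symm
  · apply Subtype.ext
    show (x ^ (1 : ℤ) * y) ^ 2 = (x ^ (2 : ℕ)) ^ (2 ^ (m + 1))
    rw [h.xy_sq, ← pow_mul, ← zpow_natCast x, h.zpow_eq_iff]
    exact ⟨0, by push_cast; ring⟩
  · apply Subtype.ext
    show x ^ (1 : ℤ) * y * x ^ (2 : ℕ) * (x ^ (1 : ℤ) * y)⁻¹ = (x ^ (2 : ℕ))⁻¹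
    rw [← zpow_natCast, h.conj_x_by_xy, ← zpow_neg, h.zpow_eq_iff]
    exact ⟨1, by push_cast; ring⟩
  · rw [h.card_part, pow_succ]; omega

theorem nonempty_part_equiv_dihedral :
    Nonempty (h.part 2 (QDGen.dvd_two m) 0 ≃* DihedralGroup (2 ^ (m + 2))) := by
  have hd := QDGen.dvd_two m
  have ha : x ^ (2 : ℕ) ∈ h.part 2 hd 0 := by
    rw [← zpow_natCast]; exact (h.x_mem_part hd).2 dvd_rfl
  have hb : x ^ (0 : ℤ) * y ∈ h.part 2 hd 0 := (h.xy_mem_part hd).2 (by simp)
  refine PGroup.dihedralEquivOfRel (a := ⟨_, ha⟩) (b := ⟨_, hb⟩) ?_ ?_ ?_ ?_ ?_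
  · rw [Subgroup.orderOf_mk, orderOf_pow_of_dvd two_ne_zero ⟨4 * 2 ^ m, by rw [h.ordX]; ring⟩, h.ordX,
      pow_succ, pow_succ]
    omega
  · rintro ⟨i, hi⟩
    have h1 : (x ^ (2 : ℕ)) ^ i = x ^ (0 : ℤ) * y := by simpa using congrArg Subtype.val hi
    rw [← zpow_natCast, ← zpow_mul] at h1
    exact h.xy_ne _ _ h1.symm
  · exact Subtype.ext ((h.xy_sq_eq_one_iff 0).2 (dvd_zero _))
  · apply Subtype.ext
    show x ^ (0 : ℤ) * y * x ^ (2 : ℕ) * (x ^ (0 : ℤ) * y)⁻¹ = (x ^ (2 : ℕ))⁻¹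
    rw [← zpow_natCast, h.conj_x_by_xy, ← zpow_neg, h.zpow_eq_iff]
    exact ⟨1, by push_cast; ring⟩
  · rw [h.card_part, pow_succ, pow_succ]; omega

/-- A subgroup `M` of index two with `M ∩ S = part 2 e` has no subgroup of index two containing that part. -/
theorem false_of_part_le {M : Subgroup G} [M.Normal] {e : ℤ}
    (hmem : ∀ g : ↥(S : Subgroup G), (g : G) ∈ M ↔ g ∈ h.part 2 (QDGen.dvd_two m) e)
    {L : Subgroup M} (hL : L.index = 2)
    (hall : ∀ g : ↥(S : Subgroup G), g ∈ h.part 2 (QDGen.dvd_two m) e → (g : G) ∈ L.map M.subtype) :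
    False := by
  haveI : Fact (Nat.Prime 2) := ⟨Nat.prime_two⟩
  obtain ⟨R, hR⟩ := SylowCount.exists_sylow_inf S M
  have hle : (R : Subgroup M) ≤ L := by
    rintro ⟨g, hgM⟩ hg
    rw [hR] at hg
    obtain ⟨l, hl, hlg⟩ := hall ⟨g, hg⟩ ((hmem ⟨g, hg⟩).1 hgM)
    have : l = ⟨g, hgM⟩ := Subtype.ext hlg
    rwa [← this]
  exact R.not_dvd_index ((dvd_of_eq hL.symm).trans (Subgroup.index_dvd_of_le hle))

theorem hasNormalPComplement_of_missing_both {M M' : Subgroup G} (hM : M.index = 2) (hM' : M'.index = 2)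
    (h0 : ((x ^ (0 : ℤ) * y : ↥(S : Subgroup G)) : G) ∉ M)
    (h1 : ((x ^ (1 : ℤ) * y : ↥(S : Subgroup G)) : G) ∉ M') :
    Cfsg.HasNormalPComplement 2 G := by
  haveI : Fact (Nat.Prime 2) := ⟨Nat.prime_two⟩
  haveI := Subgroup.normal_of_index_eq_two hM
  haveI := Subgroup.normal_of_index_eq_two hM'
  set K := M ⊓ M' with hK
  obtain ⟨R, hR⟩ := SylowCount.exists_sylow_inf S K
  have hle : (R : Subgroup K).map K.subtype ≤ Subgroup.zpowers (x : G) := by
    rintro _ ⟨g, hg, rfl⟩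
    rw [hR] at hg
    obtain ⟨i, hi | hi⟩ := h.exists_form ⟨(g : G), hg⟩
    · exact ⟨i, (congrArg Subtype.val hi).symm⟩
    · exfalso
      have hgi : (g : G) = ((x ^ i * y : ↥(S : Subgroup G)) : G) := congrArg Subtype.val hi
      have hmK : (g : G) ∈ M ⊓ M' := g.2
      rcases Int.even_or_odd' i with ⟨c, rfl | rfl⟩
      · apply h0
        have e1 : x ^ (0 : ℤ) * y = x ^ (-(2 * c)) * (x ^ (2 * c) * y) := by
          rw [QDGen.x_mul_xy, neg_add_cancel]
        rw [e1, Subgroup.coe_mul, ← hgi]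
        exact M.mul_mem (x_even_mem h hM (dvd_mul_right 2 c).neg_right) hmK.1
      · apply h1
        have e1 : x ^ (1 : ℤ) * y = x ^ (-(2 * c)) * (x ^ (2 * c + 1) * y) := by
          rw [QDGen.x_mul_xy]; ring_nf
        rw [e1, Subgroup.coe_mul, ← hgi]
        exact M'.mul_mem (x_even_mem h hM' (dvd_mul_right 2 c).neg_right) hmK.2
  have hcyc : IsCyclic (R : Subgroup K) := by
    haveI := Subgroup.isCyclic_of_le hle
    exact ((R : Subgroup K).equivMapOfInjective K.subtype K.subtype_injective).isCyclic.mpr this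
  rw [Transfer.hasNormalPComplement_iff]
  have key : Cfsg.HasNormalPComplement 2 K := by
    rcases (Nat.card K).even_or_odd with hev | hodd
    · exact ⟨R, _, MonoidHom.normal_ker _, MonoidHom.ker_transferSylow_isComplement' R
        (hcyc.normalizer_le_centralizer (p := 2) ((Nat.minFac_eq_two_iff _).mpr (even_iff_two_dvd.mp hev)))⟩
    · rw [Transfer.hasNormalPComplement_iff]
      exact fun hd => Nat.not_even_iff_odd.mpr hodd
        (even_iff_two_dvd.mpr (hd.trans (Subgroup.card_subgroup_dvd_card _)))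
  have hres : Cfsg.pResidual 2 G ≤ (Cfsg.pResidual 2 K).map K.subtype := by
    show Transfer.residual 2 G ≤ _
    rw [Transfer.residual, Subgroup.closure_le]
    intro g hg
    have hodd : Odd (orderOf g) := Nat.coprime_two_right.mp hg
    refine ⟨⟨g, mem_of_odd_of_index_two hM hodd, mem_of_odd_of_index_two hM' hodd⟩, ?_, rfl⟩
    exact Transfer.mem_residual_of_coprime (by rw [← Subgroup.orderOf_coe]; exact hg)
  intro hd
  refine Transfer.hasNormalPComplement_iff.mp key ?_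
  have := hd.trans (Subgroup.card_dvd_of_le hres)
  rwa [Subgroup.card_map_of_injective K.subtype_injective] at this

end

end Cfsg.Agent.QDFusion
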